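import Cfsg.Agent.H491.Gen.Ree
import Cfsg.Agent.H891.Gen.Defs

/-!
# `ASRows.sz`, `ASRows.ree` (helper491, TEAM GEN)
-/

set_option autoImplicit false

namespace Cfsg.Agent.H491.Gen

open Cfsg.Agent.H440.TwoGen Cfsg.Agent.H384.TwoTrans

universe u v

theorem sz : ∀ (G : Type u) (Ω : Type v) [Group G] [MulAction G Ω] (T : Subgroup G), AS G Ω T →
    ∀ (F : Type) [Field F] [Fintype F] (m : ℕ), 1 ≤ m → Fintype.card F = 2 ^ (2 * m + 1) →
      Nonempty (↥T ≃* ↥(Cfsg.Lie.Sz F (2 ^ (m + 1)))) → TwoGen G := by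
  intro G Ω _ _ T A F _ _ m hm hF e
  exact e.elim (Sz.twoGen A.normal A.cent hm hF)

theorem ree : ∀ (G : Type u) (Ω : Type v) [Group G] [MulAction G Ω] (T : Subgroup G), AS G Ω T →
    ∀ (K : Type) [Field K] [Fintype K] (m : ℕ), 1 ≤ m → Fintype.card K = 3 ^ (2 * m + 1) →
      Nonempty (↥T ≃* ↥(Cfsg.Lie.twistedG2 K (3 ^ m))) → TwoGen G := by
  intro G Ω _ _ T A K _ _ m hm hK e
  exact e.elim (Ree.twoGen A.normal A.cent hm hK)

end Cfsg.Agent.H491.Gen
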