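import Cfsg.Agent.H491.Gen.Cyc
import Cfsg.Agent.H70.SzAutThm
import Cfsg.Agent.H891.Gen.Defs
import Cfsg.Agent.H967.CopMat
import Cfsg.Agent.Lib.FieldAutCard

/-!
# Two-generation of the almost simple groups with socle `Sz(q)` (helper491)
-/

set_option autoImplicit false

namespace Cfsg.Agent.H491.Gen.Sz

open Subgroup Cfsg.Agent.H440.TwoGen Cfsg.Agent.ThreePrime.SzRel Cfsg.Agent.LieRecognition.SzMatrix
  Cfsg.Agent.H70.SzOut

variable {J : Type*} [Group J] {F : Type*} [Field F]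

/-- `x ↦ x θ(x)` is surjective -/
theorem mul_theta_surj [Finite F] (R : Cfsg.Agent.ThreePrime.SzRel.Rel J F) (e : F) : ∃ a : F, a * R.θ a = e := by
  have hinj : Function.Injective (fun a : F => a * R.θ a) := by
    intro a b h
    simp only at h
    by_cases hb : b = 0
    · rw [hb, zero_mul] at h
      rcases mul_eq_zero.1 h with h | h
      · rw [h, hb]
      · rw [(map_eq_zero R.θ).1 h, hb]
    · have hb' : R.θ b ≠ 0 := fun h0 => hb ((map_eq_zero R.θ).1 h0)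
      set c := a / b with hc
      have h1 : c * R.θ c = 1 := by
        rw [hc, map_div₀, div_mul_div_comm, h, div_self (mul_ne_zero hb hb')]
      have hc0 : c ≠ 0 := by rintro h0; rw [h0, zero_mul] at h1; exact zero_ne_one h1
      have h2 : R.θ c * c ^ 2 = 1 := by
        rw [← R.sq c, ← map_mul, h1, map_one]
      have h3 : c = 1 := by
        have h4 : c * (c * R.θ c) = 1 := by linear_combination h2
        rwa [h1, mul_one] at h4
      rwa [hc, div_eq_one_iff_eq hb] at h3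
  exact (Finite.injective_iff_surjective.1 hinj) e

/-- `x ↦ x² / θ(x)` is surjective on units -/
theorem ratio_surj [Finite F] (R : Cfsg.Agent.ThreePrime.SzRel.Rel J F) {x : F} (hx : x ≠ 0) :
    ∃ k : Fˣ, (k : F) ^ 2 * (R.θ k)⁻¹ = x := by
  obtain ⟨a, ha⟩ := (Finite.injective_iff_surjective.1 R.θ.injective) x
  have ha0 : a ≠ 0 := by rintro rfl; rw [map_zero] at ha; exact hx ha.symm
  refine ⟨Units.mk0 (R.θ a) (fun h => ha0 ((map_eq_zero R.θ).1 h)) * Units.mk0 a ha0, ?_⟩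
  have h1 : R.θ a ≠ 0 := fun h => ha0 ((map_eq_zero R.θ).1 h)
  rw [Units.val_mul, Units.val_mk0, Units.val_mk0, map_mul, R.sq, ← ha]
  field_simp

/-- The generation lemma. -/
theorem gen [Finite F] (R : Cfsg.Agent.ThreePrime.SzRel.Rel J F) (M : Subgroup J) (hM : ∀ k, R.d k ∈ M) {k : Fˣ} (hk : k ≠ 1)
    (h : R.u 1 0 * (R.d k)⁻¹ * (R.u 1 0)⁻¹ * R.d k ∈ M) : R.u 1 0 ∈ M ∧ (R.w ∈ M → M = ⊤) := by
  -- a unipotent element with nonzero first coordinate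
  obtain ⟨c, d, hc, hcd⟩ : ∃ c d : F, c ≠ 0 ∧ R.u c d ∈ M := by
    have h1 : R.u 1 0 * (R.d k)⁻¹ * (R.u 1 0)⁻¹ * R.d k =
        R.u 1 0 * (R.d k⁻¹ * (R.u 1 0)⁻¹ * (R.d k⁻¹)⁻¹) := by
      rw [R.d_inv, R.d_inv, inv_inv]
      group
    rw [h1, R.u_inv, R.conj_d, R.u_mul] at h
    refine ⟨_, _, ?_, h⟩
    intro h0
    have h2 : ((k⁻¹ : Fˣ) : F) ^ 2 * (R.θ ((k⁻¹ : Fˣ) : F))⁻¹ = 1 := by
      have h3 := R.add_self (1 : F)
      have h4 : (1 : F) * ((k⁻¹ : Fˣ) : F) ^ 2 * (R.θ ((k⁻¹ : Fˣ) : F))⁻¹ = 1 :=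
        add_left_cancel (h0.trans h3.symm)
      rwa [one_mul] at h4
    have h5 : R.θ ((k⁻¹ : Fˣ) : F) = ((k⁻¹ : Fˣ) : F) ^ 2 := by
      have h6 := R.theta_ne_zero k⁻¹
      field_simp at h2
      exact h2.symm
    have h7 : ((k⁻¹ : Fˣ) : F) ^ 4 = ((k⁻¹ : Fˣ) : F) ^ 2 := by
      have h8 := R.sq ((k⁻¹ : Fˣ) : F)
      rw [h5, map_pow, h5] at h8
      apply mul_left_cancel₀ (pow_ne_zero 2 ((k⁻¹).ne_zero))
      have h8' : (((k⁻¹ : Fˣ) : F) ^ 2) ^ 2 = ((k⁻¹ : Fˣ) : F) ^ 2 := h8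
      linear_combination ((k⁻¹ : Fˣ) : F) ^ 2 * h8'
    have h9 : ((k⁻¹ : Fˣ) : F) ^ 2 = 1 := by
      have h10 : ((k⁻¹ : Fˣ) : F) ≠ 0 := (k⁻¹).ne_zero
      apply mul_left_cancel₀ (pow_ne_zero 2 h10)
      linear_combination h7
    rw [h9] at h5
    have h11 : ((k⁻¹ : Fˣ) : F) = 1 := R.θ.injective (by rw [h5, map_one])
    apply hk
    rw [← inv_inv k, show k⁻¹ = 1 from Units.ext (h11.trans Units.val_one.symm), inv_one]
  have hconj : ∀ (l : Fˣ) (c d : F), R.u c d ∈ M → R.u (c * l ^ 2 * (R.θ l)⁻¹) (d * R.θ l) ∈ M := by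
    intro l c d h
    rw [← R.conj_d]
    exact M.mul_mem (M.mul_mem (hM l) h) (M.inv_mem (hM l))
  have h1 : ∀ a : F, ∃ b : F, R.u a b ∈ M := by
    intro a
    by_cases ha0 : a = 0
    · exact ⟨0, by rw [ha0, R.u_zero]; exact M.one_mem⟩
    · obtain ⟨l, hl⟩ := ratio_surj R (div_ne_zero ha0 hc)
      have := hconj l c d hcd
      rw [mul_assoc, hl, mul_div_cancel₀ a hc] at this
      exact ⟨_, this⟩
  have h2 : ∀ e : F, R.u 0 e ∈ M := by
    intro e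
    obtain ⟨a, rfl⟩ := mul_theta_surj R e
    obtain ⟨b, hb⟩ := h1 a
    have h3 := M.mul_mem hb hb
    rw [R.u_mul_self] at h3
    exact h3
  have h3 : ∀ a b : F, R.u a b ∈ M := by
    intro a b
    obtain ⟨b', hb'⟩ := h1 a
    have h4 := M.mul_mem hb' (h2 (b - b'))
    rw [R.u_mul] at h4
    simpa using h4
  refine ⟨h3 1 0, fun hw => ?_⟩
  rw [eq_top_iff]
  intro g _
  rcases R.bruhat g with ⟨a, b, l, rfl⟩ | ⟨a, b, c, e, l, rfl⟩
  · exact M.mul_mem (h3 a b) (hM l)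
  · exact M.mul_mem (M.mul_mem (h3 a b) hw) (M.mul_mem (h3 c e) (hM l))

theorem mapUnits_generator {A : Type*} [Group A] {B : Type*} [Group B] (f : A ≃* B) {x : A}
    (hx : ∀ z : A, z ∈ zpowers x) (z : B) : z ∈ zpowers (f x) := by
  obtain ⟨n, hn⟩ := hx (f.symm z)
  refine ⟨n, ?_⟩
  show f x ^ n = z
  rw [← map_zpow]
  have : x ^ n = f.symm z := hn
  rw [this, f.apply_symm_apply]

/-- **Two-generation, socle `Sz(q)`.** -/
theorem twoGen {G : Type*} [Group G] {T : Subgroup G} (hT : T.Normal) (hC : centralizer (T : Set G) = ⊥)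
    [Fintype F] {m : ℕ} (hm : 1 ≤ m) (hF : Fintype.card F = 2 ^ (2 * m + 1))
    (e : ↥T ≃* ↥(Cfsg.Lie.Sz F (2 ^ (m + 1)))) : TwoGen G := by
  obtain ⟨κ, hκ⟩ := IsCyclic.exists_generator (α := Fˣ)
  have hp2 : Fact (Nat.Prime 2) := ⟨Nat.prime_two⟩
  have hcF : CharP F 2 := by
    obtain ⟨q, hq⟩ := CharP.exists F
    obtain ⟨k, hqp, hk⟩ := FiniteField.card F q
    have h1 : q ∣ 2 ^ (2 * m + 1) := by rw [← hF, hk]; exact dvd_pow_self q k.pos.ne'
    rwa [← (Nat.prime_dvd_prime_iff_eq hqp Nat.prime_two).1 (hqp.dvd_of_dvd_pow h1)]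
  have hfin : Finite (F ≃+* F) := Finite.of_injective (fun f : F ≃+* F => (f : F → F)) DFunLike.coe_injective
  have hcard : Nat.card (F ≃+* F) = 2 * m + 1 := Cfsg.Agent.Lib.FieldAutCard.card_ringAut (by omega) hF
  obtain ⟨τ, hτ⟩ := Cfsg.Agent.H967.CopMat.exists_ringAut 2 (2 * m + 1) hF
  have hcyc : IsCyclic (F ≃+* F) := isCyclic_of_orderOf_eq_card τ (by rw [hτ, hcard])
  set R := ofGood (good hF) with hR
  have hne : ∀ x : Fˣ, (∀ z : Fˣ, z ∈ zpowers x) → x ≠ 1 := by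
    rintro x hx rfl
    have h1 : Nat.card Fˣ = 1 := by
      rw [Nat.card_eq_one_iff_unique]
      refine ⟨⟨fun a b => ?_⟩, ⟨1⟩⟩
      obtain ⟨i, rfl⟩ := hx a
      obtain ⟨j, rfl⟩ := hx b
      simp
    rw [Nat.card_units, Nat.card_eq_fintype_card, hF] at h1
    have : 2 ^ 3 ≤ 2 ^ (2 * m + 1) := Nat.pow_le_pow_right (by norm_num) (by omega)
    omega
  refine Cyc.main (A := F ≃+* F) (D := Fˣ) hT hC e (by rw [hcard]; exact ⟨m, rfl⟩) (fieldAut (good hF))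
    (Cfsg.Agent.H70.SzAutThm.exists_conj_field hm hF) ⟨⟨R.d, R.d_one⟩, fun x y => (R.d_mul x y).symm⟩ hκ ?_
    (w := R.w) (u := R.u 1 0) (fun σ => fieldAut_w (good hF) σ) R.w_mul_w ?_ ?_
  · intro σ
    refine ⟨Units.mapEquiv σ.toMulEquiv κ, mapUnits_generator _ hκ, fieldAut_d (good hF) σ κ⟩
  · intro x
    show R.w * R.d x * R.w⁻¹ = (R.d x)⁻¹
    rw [R.w_mul_d, mul_inv_cancel_right, R.d_inv]
  · intro M hM x hx h
    exact gen R M hM (hne x hx) h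

end Cfsg.Agent.H491.Gen.Sz
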